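import Cfsg.Agent.H539.Lim.Defs

/-!
# S5242, F1 (helper473): general coefficient systems

* `Coef.dd_dd`; `Coef.dd_equiv` : the coboundary of an equivariant cochain is equivariant;
* `Coef.van_two1`, `Coef.van_two3` : two out of three for a convex set `V` and an upper set `U`;
* `Coef.van_of_filt` : filtrations.
-/

set_option autoImplicit false
set_option linter.unusedSectionVars false

namespace Cfsg.Agent.H473.Lim

open MulAction Cfsg.Agent.H539.Lim

universe u v w

/-- double faces cancel -/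
theorem double_sum {M : Type*} [AddCommGroup M] {k : ℕ} (F : (Fin k → Fin (k + 2)) → M) :
    ∑ i : Fin (k + 2), ((-1 : ℤ) ^ (i : ℕ)) • ∑ j : Fin (k + 1), ((-1 : ℤ) ^ (j : ℕ)) •
      F (fun l => i.succAbove (j.succAbove l)) = 0 := by
  simp only [Finset.smul_sum, smul_smul, ← pow_add]
  rw [← Fintype.sum_prod_type' (f := fun (i : Fin (k + 2)) (j : Fin (k + 1)) =>
    ((-1 : ℤ) ^ ((i : ℕ) + (j : ℕ))) • F (fun l => i.succAbove (j.succAbove l)))]
  refine Finset.sum_involution (fun p _ => (p.1.succAbove p.2, p.2.predAbove p.1)) ?_ ?_ (by simp) ?_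
  · rintro ⟨i, j⟩ _
    have h1 : (fun l => (i.succAbove j).succAbove ((j.predAbove i).succAbove l)) =
        fun l => i.succAbove (j.succAbove l) := by
      funext l
      exact Fin.succAbove_succAbove_succAbove_predAbove i j l
    have h2 := Fin.neg_one_pow_succAbove_add_predAbove (R := ℤ) i j
    simp only [h1, h2, neg_smul]
    exact add_neg_cancel _
  · rintro ⟨i, j⟩ _ _ h
    have h1 := congrArg Prod.fst h
    exact Fin.succAbove_ne i j h1
  · rintro ⟨i, j⟩ _
    simp [Fin.succAbove_succAbove_predAbove, Fin.predAbove_predAbove_succAbove]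

section

variable {G : Type u} [Group G] (C : Coef.{u, w} G)

theorem tau_congr {g g' : G} (hg : g = g') {P Q : Subgroup G} (h : ∀ u ∈ P, g * u * g⁻¹ ∈ Q)
    (h' : ∀ u ∈ P, g' * u * g'⁻¹ ∈ Q) (m : C.M Q) : C.τ g P Q h m = C.τ g' P Q h' m := by
  subst hg
  rfl

theorem res_res {P Q R : Subgroup G} (h1 : P ≤ Q) (h2 : Q ≤ R) (m : C.M R) :
    C.res h1 (C.res h2 m) = C.res (h1.trans h2) m := by
  unfold Coef.res
  rw [C.τ_comp 1 1 P Q R _ _ (fun u hu => by simpa using h2 (h1 hu))]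
  exact tau_congr C (one_mul 1) _ _ m

theorem tau_res {g : G} {P Q R : Subgroup G} (h : ∀ u ∈ P, g * u * g⁻¹ ∈ Q) (h2 : Q ≤ R) (m : C.M R) :
    C.τ g P Q h (C.res h2 m) = C.τ g P R (fun u hu => h2 (h u hu)) m := by
  unfold Coef.res
  rw [C.τ_comp g 1 P Q R _ _ (fun u hu => by simpa using h2 (h u hu))]
  exact tau_congr C (one_mul g) _ _ m

theorem res_tau {g : G} {P Q R : Subgroup G} (h1 : P ≤ Q) (h : ∀ u ∈ Q, g * u * g⁻¹ ∈ R) (m : C.M R) :
    C.res h1 (C.τ g Q R h m) = C.τ g P R (fun u hu => h u (h1 hu)) m := by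
  unfold Coef.res
  rw [C.τ_comp 1 g P Q R _ _ (fun u hu => by simpa using h u (h1 hu))]
  exact tau_congr C (mul_one g) _ _ m

variable {Ω : Type v} [MulAction G Ω]

theorem st_comp_le {k l : ℕ} (x : Fin k → Ω) (f : Fin l → Fin k) : st G x ≤ st G (fun j => x (f j)) := by
  intro g hg
  rw [MulAction.mem_stabilizer_iff] at hg ⊢
  funext j
  exact congrFun hg (f j)

/- F1 -/
theorem Coef.dd_dd {k : ℕ} (c : ∀ x : Fin k → Ω, C.M (st G x)) (x : Fin (k + 2) → Ω) :
    C.dd (fun y => C.dd c y) x = 0 := by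
  have h := double_sum (M := C.M (st G x)) fun f : Fin k → Fin (k + 2) =>
    C.res (st_comp_le x f) (c fun l => x (f l))
  rw [← h]
  unfold Cfsg.Agent.H539.Lim.Coef.dd
  refine Finset.sum_congr rfl fun i _ => ?_
  congr 1
  rw [map_sum]
  refine Finset.sum_congr rfl fun j _ => ?_
  rw [map_zsmul, res_res]

theorem Coef.dd_add {k : ℕ} (c c' : ∀ x : Fin k → Ω, C.M (st G x)) (x : Fin (k + 1) → Ω) :
    C.dd (fun y => c y + c' y) x = C.dd c x + C.dd c' x := by
  unfold Cfsg.Agent.H539.Lim.Coef.dd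
  rw [← Finset.sum_add_distrib]
  refine Finset.sum_congr rfl fun i _ => ?_
  rw [map_add, smul_add]

theorem Coef.dd_sub {k : ℕ} (c c' : ∀ x : Fin k → Ω, C.M (st G x)) (x : Fin (k + 1) → Ω) :
    C.dd (fun y => c y - c' y) x = C.dd c x - C.dd c' x := by
  unfold Cfsg.Agent.H539.Lim.Coef.dd
  rw [← Finset.sum_sub_distrib]
  refine Finset.sum_congr rfl fun i _ => ?_
  rw [map_sub, smul_sub]

/-- the coboundary depends on the faces only -/
theorem Coef.dd_congr {k : ℕ} {c c' : ∀ x : Fin k → Ω, C.M (st G x)} {x : Fin (k + 1) → Ω}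
    (h : ∀ i : Fin (k + 1), c (fun j => x (i.succAbove j)) = c' (fun j => x (i.succAbove j))) :
    C.dd c x = C.dd c' x := by
  unfold Cfsg.Agent.H539.Lim.Coef.dd
  refine Finset.sum_congr rfl fun i _ => ?_
  rw [h i]

theorem Coef.dd_zero {k : ℕ} {c : ∀ x : Fin k → Ω, C.M (st G x)} {x : Fin (k + 1) → Ω}
    (h : ∀ i : Fin (k + 1), c (fun j => x (i.succAbove j)) = 0) : C.dd c x = 0 := by
  unfold Cfsg.Agent.H539.Lim.Coef.dd
  refine Finset.sum_eq_zero fun i _ => ?_
  rw [h i, map_zero, smul_zero]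

theorem Coef.dd_equiv {k : ℕ} {c : ∀ x : Fin k → Ω, C.M (st G x)}
    (hc : ∀ (g : G) (x : Fin k → Ω), C.τ g (st G x) (st G (g • x)) (Coef.conj_st G g x) (c (g • x)) = c x)
    (g : G) (x : Fin (k + 1) → Ω) :
    C.τ g (st G x) (st G (g • x)) (Coef.conj_st G g x) (C.dd c (g • x)) = C.dd c x := by
  unfold Cfsg.Agent.H539.Lim.Coef.dd
  rw [map_sum]
  refine Finset.sum_congr rfl fun i _ => ?_
  rw [map_zsmul, tau_res, ← hc g (fun j => x (i.succAbove j)), res_tau]
  rfl

/-! ### truncation -/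

open Classical in
/-- truncation of a function to the tuples with stabilizer in `V` -/
noncomputable def trunc (V : Set (Subgroup G)) {k : ℕ} (c : ∀ x : Fin k → Ω, C.M (st G x)) :
    ∀ x : Fin k → Ω, C.M (st G x) :=
  fun x => if st G x ∈ V then c x else 0

variable {C} in
theorem trunc_mem {V : Set (Subgroup G)} {k : ℕ} {c : ∀ x : Fin k → Ω, C.M (st G x)} {x : Fin k → Ω}
    (h : st G x ∈ V) : trunc C V c x = c x := if_pos h

variable {C} in
theorem trunc_not {V : Set (Subgroup G)} {k : ℕ} {c : ∀ x : Fin k → Ω, C.M (st G x)} {x : Fin k → Ω}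
    (h : st G x ∉ V) : trunc C V c x = 0 := if_neg h

variable (G) in
theorem st_smul {k : ℕ} (g : G) (x : Fin k → Ω) : st G (g • x) = cj g (st G x) :=
  MulAction.stabilizer_smul_eq_stabilizer_map_conj g x

theorem st_smul_mem {V : Set (Subgroup G)} (hVi : IsInv V) {k : ℕ} (g : G) (x : Fin k → Ω) :
    st G (g • x) ∈ V ↔ st G x ∈ V := by
  constructor
  · intro h
    have h1 := hVi g⁻¹ _ h
    rw [← st_smul, inv_smul_smul] at h1
    exact h1
  · intro h
    rw [st_smul]
    exact hVi g _ h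

theorem trunc_equiv {V : Set (Subgroup G)} (hVi : IsInv V) {k : ℕ} {c : ∀ x : Fin k → Ω, C.M (st G x)}
    (hc : ∀ (g : G) (x : Fin k → Ω), C.τ g (st G x) (st G (g • x)) (Coef.conj_st G g x) (c (g • x)) = c x)
    (g : G) (x : Fin k → Ω) :
    C.τ g (st G x) (st G (g • x)) (Coef.conj_st G g x) (trunc C V c (g • x)) = trunc C V c x := by
  by_cases h : st G x ∈ V
  · rw [trunc_mem h, trunc_mem ((st_smul_mem hVi g x).mpr h), hc]
  · rw [trunc_not h, trunc_not (fun h1 => h ((st_smul_mem hVi g x).mp h1)), map_zero]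

theorem face_mem {U : Set (Subgroup G)} (hU : IsUpperSet U) {k : ℕ} {x : Fin (k + 1) → Ω}
    (h : st G x ∈ U) (i : Fin (k + 1)) : st G (fun j => x (i.succAbove j)) ∈ U :=
  hU (Coef.st_succAbove_le G x i) h

variable {C} in
theorem Coef.dd_trunc {U : Set (Subgroup G)} (hU : IsUpperSet U) {k : ℕ} {c : ∀ x : Fin k → Ω, C.M (st G x)}
    {x : Fin (k + 1) → Ω} (h : st G x ∈ U) : C.dd (trunc C U c) x = C.dd c x :=
  Coef.dd_congr C fun i => trunc_mem (face_mem hU h i)

variable {C} in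
/-- the main remark -/
theorem Coef.dd_trunc_dd {V : Set (Subgroup G)} (hV : V.OrdConnected) {k : ℕ}
    {b : ∀ x : Fin k → Ω, C.M (st G x)} (hb : ∀ x, st G x ∉ V → b x = 0)
    {x : Fin (k + 2) → Ω} (h : st G x ∈ V) : C.dd (trunc C V (fun y => C.dd b y)) x = 0 := by
  rw [← Coef.dd_dd C b x]
  refine Coef.dd_congr C fun i => ?_
  by_cases h1 : st G (fun j => x (i.succAbove j)) ∈ V
  · exact trunc_mem h1
  · rw [trunc_not h1]
    refine (Coef.dd_zero C fun j => hb _ fun h2 => h1 ?_).symm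
    exact hV.out h h2 ⟨Coef.st_succAbove_le G x i, Coef.st_succAbove_le G _ j⟩

theorem Coef.van_two1 {V U : Set (Subgroup G)} (hV : V.OrdConnected) (hVi : IsInv V) (hU : IsUpperSet U)
    (hUi : IsInv U) {n : ℕ} (h1 : C.Van Ω (V \ U) n) (h2 : C.Van Ω (V ∩ U) n) : C.Van Ω V n := by
  cases n with
  | zero =>
    intro c hc hz x
    have h3 := h2 (trunc C U c) ⟨trunc_equiv C hUi hc.equiv, fun y hy => by
      by_cases hyU : st G y ∈ U
      · rw [trunc_mem hyU]
        exact hc.supp y fun h => hy ⟨h, hyU⟩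
      · exact trunc_not hyU⟩ (fun y hy => by rw [Coef.dd_trunc hU hy.2]; exact hz y hy.1)
    refine h1 c ⟨hc.equiv, fun y hy => ?_⟩ (fun y hy => hz y hy.1) x
    by_cases hyU : st G y ∈ U
    · rw [← h3 y, trunc_mem hyU]
    · exact hc.supp y fun h => hy ⟨h, hyU⟩
  | succ n =>
    intro c hc hz
    obtain ⟨b2, hb2, hb2'⟩ := h2 (trunc C U c) ⟨trunc_equiv C hUi hc.equiv, fun y hy => by
      by_cases hyU : st G y ∈ U
      · rw [trunc_mem hyU]
        exact hc.supp y fun h => hy ⟨h, hyU⟩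
      · exact trunc_not hyU⟩ (fun y hy => by rw [Coef.dd_trunc hU hy.2]; exact hz y hy.1)
    have hb2V : ∀ x, st G x ∉ V → b2 x = 0 := fun x hx => hb2.supp x fun h => hx h.1
    obtain ⟨b1, hb1, hb1'⟩ := h1 (fun y => c y - trunc C V (fun z => C.dd b2 z) y)
      ⟨fun g x => by
        rw [map_sub, hc.equiv g x, trunc_equiv C hVi (Coef.dd_equiv C hb2.equiv) g x], fun y hy => by
        by_cases hyV : st G y ∈ V
        · have hyU : st G y ∈ U := by
            by_contra h
            exact hy ⟨hyV, h⟩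
          show c y - trunc C V (fun z => C.dd b2 z) y = 0
          rw [trunc_mem hyV, ← hb2' y ⟨hyV, hyU⟩, trunc_mem hyU, sub_self]
        · show c y - trunc C V (fun z => C.dd b2 z) y = 0
          rw [trunc_not hyV, hc.supp y hyV, sub_zero]⟩
      (fun y hy => by
        rw [Coef.dd_sub, hz y hy.1, Coef.dd_trunc_dd hV hb2V hy.1, sub_zero])
    refine ⟨fun x => b1 x + b2 x, ⟨fun g x => ?_, fun x hx => ?_⟩, fun x hx => ?_⟩
    · rw [map_add, hb1.equiv, hb2.equiv]
    · show b1 x + b2 x = 0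
      rw [hb1.supp x fun h => hx h.1, hb2.supp x fun h => hx h.1, add_zero]
    · rw [Coef.dd_add]
      by_cases hxU : st G x ∈ U
      · rw [Coef.dd_zero C (c := b1) fun i => hb1.supp _ fun h => h.2 (face_mem hU hxU i), zero_add,
          ← hb2' x ⟨hx, hxU⟩, trunc_mem hxU]
      · rw [← hb1' x ⟨hx, hxU⟩, trunc_mem hx, sub_add_cancel]

theorem Coef.van_two3 {V U : Set (Subgroup G)} (hV : V.OrdConnected) (hVi : IsInv V) (hU : IsUpperSet U)
    (hUi : IsInv U) {n : ℕ} (h1 : C.Van Ω V n) (h2 : C.Van Ω (V \ U) (n + 1)) :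
    C.Van Ω (V ∩ U) n := by
  have key : ∀ (c : ∀ x : Fin (n + 1) → Ω, C.M (st G x)), C.IsCoch (V ∩ U) c → C.IsCoc (V ∩ U) c →
      ∃ b : (∀ x : Fin (n + 1) → Ω, C.M (st G x)), C.IsCoch (V \ U) b ∧
        C.IsCoc V (fun x => c x - b x) := by
    intro c hc hz
    have hcV : ∀ x, st G x ∉ V → c x = 0 := fun x hx => hc.supp x fun h => hx h.1
    obtain ⟨b, hb, hb'⟩ := h2 (trunc C V (fun z => C.dd c z))
      ⟨trunc_equiv C hVi (Coef.dd_equiv C hc.equiv), fun y hy => by
        by_cases hyV : st G y ∈ V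
        · have hyU : st G y ∈ U := by
            by_contra h
            exact hy ⟨hyV, h⟩
          rw [trunc_mem hyV]
          exact hz y ⟨hyV, hyU⟩
        · exact trunc_not hyV⟩ (fun y hy => Coef.dd_trunc_dd hV hcV hy.1)
    refine ⟨b, hb, fun x hx => ?_⟩
    rw [Coef.dd_sub]
    by_cases hxU : st G x ∈ U
    · rw [hz x ⟨hx, hxU⟩, Coef.dd_zero C (c := b) fun i => hb.supp _ fun h => h.2 (face_mem hU hxU i),
        sub_zero]
    · rw [← hb' x ⟨hx, hxU⟩, trunc_mem hx, sub_self]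
  cases n with
  | zero =>
    intro c hc hz x
    obtain ⟨b, hb, hbz⟩ := key c hc hz
    have h3 := h1 (fun x => c x - b x) ⟨fun g x => by rw [map_sub, hc.equiv, hb.equiv], fun y hy => by
      show c y - b y = 0
      rw [hc.supp y fun h => hy h.1, hb.supp y fun h => hy h.1, sub_zero]⟩ hbz
    by_cases hx : st G x ∈ V ∩ U
    · have h4 := h3 x
      rw [hb.supp x fun h => h.2 hx.2, sub_zero] at h4
      exact h4
    · exact hc.supp x hx
  | succ n =>
    intro c hc hz
    obtain ⟨b, hb, hbz⟩ := key c hc hz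
    obtain ⟨a, ha, ha'⟩ := h1 (fun x => c x - b x)
      ⟨fun g x => by rw [map_sub, hc.equiv, hb.equiv], fun y hy => by
        show c y - b y = 0
        rw [hc.supp y fun h => hy h.1, hb.supp y fun h => hy h.1, sub_zero]⟩ hbz
    refine ⟨trunc C U a, ⟨trunc_equiv C hUi ha.equiv, fun y hy => ?_⟩, fun x hx => ?_⟩
    · by_cases hyU : st G y ∈ U
      · rw [trunc_mem hyU]
        exact ha.supp y fun h => hy ⟨h, hyU⟩
      · exact trunc_not hyU
    · have h4 := ha' x hx.1
      rw [hb.supp x fun h => h.2 hx.2, sub_zero] at h4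
      rw [h4, Coef.dd_trunc hU hx.2]

theorem Coef.van_empty (n : ℕ) : C.Van Ω (∅ : Set (Subgroup G)) n := by
  cases n with
  | zero =>
    intro c hc _ x
    exact hc.supp x fun h => h
  | succ n =>
    intro c hc _
    exact ⟨fun x => 0, ⟨fun g x => map_zero _, fun x _ => rfl⟩, fun x hx => absurd hx fun h => h⟩

theorem Coef.van_of_filt [Finite G] {V : Set (Subgroup G)} (hV : V.OrdConnected) (hVi : IsInv V)
    (f : Subgroup G → ℕ) (hf : ∀ P ∈ V, ∀ Q ∈ V, P ≤ Q → f P ≤ f Q)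
    (hfi : ∀ (g : G), ∀ P ∈ V, f (cj g P) = f P) (n : ℕ)
    (h : ∀ i, C.Van Ω {P | P ∈ V ∧ f P = i} n) : C.Van Ω V n := by
  classical
  have key : ∀ i : ℕ, C.Van Ω {P | P ∈ V ∧ f P < i} n := by
    intro i
    induction i with
    | zero =>
      have : {P : Subgroup G | P ∈ V ∧ f P < 0} = ∅ := by
        ext P
        simp
      rw [this]
      exact Coef.van_empty C n
    | succ i ih =>
      have hW : ({P : Subgroup G | P ∈ V ∧ f P < i + 1}).OrdConnected := by
        refine ⟨?_⟩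
        rintro P hP Q hQ R ⟨h1, h2⟩
        have hR : R ∈ V := hV.out hP.1 hQ.1 ⟨h1, h2⟩
        exact ⟨hR, lt_of_le_of_lt (hf R hR Q hQ.1 h2) hQ.2⟩
      have hWi : IsInv {P : Subgroup G | P ∈ V ∧ f P < i + 1} := by
        rintro g P hP
        exact ⟨hVi g P hP.1, by rw [hfi g P hP.1]; exact hP.2⟩
      have hU : IsUpperSet {P : Subgroup G | ∃ Q ∈ V, Q ≤ P ∧ i ≤ f Q} := by
        rintro P P' hPP ⟨Q, hQ, hQP, hi⟩
        exact ⟨Q, hQ, hQP.trans hPP, hi⟩
      have hUi : IsInv {P : Subgroup G | ∃ Q ∈ V, Q ≤ P ∧ i ≤ f Q} := by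
        rintro g P ⟨Q, hQ, hQP, hi⟩
        exact ⟨cj g Q, hVi g Q hQ, Subgroup.map_mono hQP, by rw [hfi g Q hQ]; exact hi⟩
      refine Coef.van_two1 C hW hWi hU hUi ?_ ?_
      · have : {P : Subgroup G | P ∈ V ∧ f P < i + 1} \ {P : Subgroup G | ∃ Q ∈ V, Q ≤ P ∧ i ≤ f Q} =
            {P : Subgroup G | P ∈ V ∧ f P < i} := by
          ext P
          constructor
          · rintro ⟨⟨h1, h2⟩, h3⟩
            refine ⟨h1, ?_⟩
            by_contra h4
            exact h3 ⟨P, h1, le_refl _, not_lt.mp h4⟩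
          · rintro ⟨h1, h2⟩
            refine ⟨⟨h1, by omega⟩, ?_⟩
            rintro ⟨Q, hQ, hQP, hi⟩
            have := hf Q hQ P h1 hQP
            omega
        rw [this]
        exact ih
      · have : {P : Subgroup G | P ∈ V ∧ f P < i + 1} ∩ {P : Subgroup G | ∃ Q ∈ V, Q ≤ P ∧ i ≤ f Q} =
            {P : Subgroup G | P ∈ V ∧ f P = i} := by
          ext P
          constructor
          · rintro ⟨⟨h1, h2⟩, Q, hQ, hQP, hi⟩
            have := hf Q hQ P h1 hQP
            exact ⟨h1, by omega⟩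
          · rintro ⟨h1, h2⟩
            exact ⟨⟨h1, by omega⟩, P, h1, le_refl _, by omega⟩
        rw [this]
        exact h i
  obtain ⟨N, hN⟩ := (Set.finite_range f).bddAbove
  have h1 : {P : Subgroup G | P ∈ V ∧ f P < N + 1} = V := by
    ext P
    constructor
    · exact fun hP => hP.1
    · exact fun hP => ⟨hP, Nat.lt_succ_of_le (hN ⟨P, rfl⟩)⟩
  rw [← h1]
  exact key (N + 1)

end

end Cfsg.Agent.H473.Lim
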